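import Cfsg.Agent.Spor.Chk

set_option autoImplicit false
set_option maxRecDepth 100000000
set_option Elab.async false
noncomputable section

namespace Cfsg.Agent.Spor.An12

def m0_0 : Nat := nat_lit 0x4
def m0_1 : Nat := nat_lit 0x2
def n0 : Net := Net.cons 1 m0_0 (Net.cons 2 m0_1 (Net.nil))

def m1_0 : Nat := nat_lit 0x1
def m1_1 : Nat := nat_lit 0x1
def m1_2 : Nat := nat_lit 0x1
def m1_3 : Nat := nat_lit 0x1
def n1 : Net := Net.cons 4 m1_0 (Net.cons 2 m1_1 (Net.cons 1 m1_2 (Net.cons 4 m1_3 (Net.nil))))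

def m2_0 : Nat := nat_lit 0x2
def m2_1 : Nat := nat_lit 0x1
def m2_2 : Nat := nat_lit 0x1
def m2_3 : Nat := nat_lit 0x1
def n2 : Net := Net.cons 4 m2_0 (Net.cons 2 m2_1 (Net.cons 1 m2_2 (Net.cons 2 m2_3 (Net.nil))))

def m3_0 : Nat := nat_lit 0x1
def m3_1 : Nat := nat_lit 0x1
def m3_2 : Nat := nat_lit 0x1
def m3_3 : Nat := nat_lit 0x4
def n3 : Net := Net.cons 2 m3_0 (Net.cons 1 m3_1 (Net.cons 2 m3_2 (Net.cons 4 m3_3 (Net.nil))))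

def m4_0 : Nat := nat_lit 0x8
def m4_1 : Nat := nat_lit 0x4
def m4_2 : Nat := nat_lit 0x2
def m4_3 : Nat := nat_lit 0x8
def n4 : Net := Net.cons 4 m4_0 (Net.cons 1 m4_1 (Net.cons 2 m4_2 (Net.cons 4 m4_3 (Net.nil))))

def m5_0 : Nat := nat_lit 0x1
def m5_1 : Nat := nat_lit 0x1
def m5_2 : Nat := nat_lit 0x1
def m5_3 : Nat := nat_lit 0x1
def n5 : Net := Net.cons 8 m5_0 (Net.cons 2 m5_1 (Net.cons 1 m5_2 (Net.cons 8 m5_3 (Net.nil))))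

def m6_0 : Nat := nat_lit 0x2
def m6_1 : Nat := nat_lit 0x1
def m6_2 : Nat := nat_lit 0x1
def m6_3 : Nat := nat_lit 0x1
def n6 : Net := Net.cons 8 m6_0 (Net.cons 2 m6_1 (Net.cons 1 m6_2 (Net.cons 2 m6_3 (Net.nil))))

def m7_0 : Nat := nat_lit 0x1
def m7_1 : Nat := nat_lit 0x1
def m7_2 : Nat := nat_lit 0x1
def m7_3 : Nat := nat_lit 0x4
def n7 : Net := Net.cons 2 m7_0 (Net.cons 1 m7_1 (Net.cons 2 m7_2 (Net.cons 8 m7_3 (Net.nil))))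

def m8_0 : Nat := nat_lit 0x8
def m8_1 : Nat := nat_lit 0x4
def m8_2 : Nat := nat_lit 0x2
def m8_3 : Nat := nat_lit 0x8
def n8 : Net := Net.cons 8 m8_0 (Net.cons 1 m8_1 (Net.cons 2 m8_2 (Net.cons 8 m8_3 (Net.nil))))

def m9_0 : Nat := nat_lit 0x1
def m9_1 : Nat := nat_lit 0x1
def n9 : Net := Net.cons 2 m9_0 (Net.cons 1 m9_1 (Net.nil))

def ip1 : List Nat := [0x55a, 0x996, 0x1e0, 0xe02]
def l1 : Let := ⟨0, false, 0xfff, 0x0, [0xc, 0x6, 0xff0]⟩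

def ip2 : List Nat := [0x55a, 0x98e, 0x1e0, 0xe02]
def l2 : Let := ⟨1, false, 0xfff, 0x0, [0x14, 0x6, 0xfe8]⟩

def ip3 : List Nat := [0x56a, 0x98e, 0x1d0, 0xe02]
def l3 : Let := ⟨2, false, 0xfff, 0x0, [0x24, 0x6, 0xfd8]⟩

def ip4 : List Nat := [0x56a, 0x98e, 0x1b0, 0xe02]
def l4 : Let := ⟨3, false, 0xfff, 0x0, [0x44, 0x6, 0xfb8]⟩

def ip5 : List Nat := [0x5aa, 0x94e, 0x170, 0xe02]
def l5 : Let := ⟨4, false, 0xfff, 0x0, [0x84, 0x6, 0xf78]⟩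

def ip6 : List Nat := [0x5aa, 0x8ce, 0xf0, 0xe02]
def l6 : Let := ⟨5, false, 0xfff, 0x0, [0x104, 0x6, 0xef8]⟩

def ip7 : List Nat := [0x6aa, 0x8ce, 0xf0, 0xd02]
def l7 : Let := ⟨6, false, 0xfff, 0x0, [0x204, 0x6, 0xdf8]⟩

def ip8 : List Nat := [0x6aa, 0x8ce, 0xf0, 0xb02]
def l8 : Let := ⟨7, false, 0xfff, 0x0, [0x404, 0x6, 0xbf8]⟩

def ip9 : List Nat := [0xaaa, 0x4ce, 0xf0, 0x702]
def l9 : Let := ⟨8, false, 0xfff, 0x0, [0x804, 0x6, 0x7f8]⟩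

def ip10 : List Nat := [0xaac, 0xcca, 0xf0, 0xf00]
def l10 : Let := ⟨9, false, 0xfff, 0x2, [0x4, 0x2, 0xff8]⟩

def ip11 : List Nat := [0x555, 0x99c, 0x1e0, 0xe04]
def l11 : Let := ⟨0, true, 0xfff, 0x8, [0x9, 0xc, 0xff0]⟩

def ip12 : List Nat := [0x54d, 0x99c, 0x1e0, 0xe04]
def l12 : Let := ⟨1, true, 0xfff, 0x10, [0x11, 0x14, 0xfe8]⟩

def ip13 : List Nat := [0x54d, 0x9ac, 0x1d0, 0xe04]
def l13 : Let := ⟨2, true, 0xfff, 0x20, [0x21, 0x24, 0xfd8]⟩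

def ip14 : List Nat := [0x52d, 0x9cc, 0x1b0, 0xe04]
def l14 : Let := ⟨3, true, 0xfff, 0x40, [0x41, 0x44, 0xfb8]⟩

def ip15 : List Nat := [0x52d, 0x9cc, 0x170, 0xe04]
def l15 : Let := ⟨4, true, 0xfff, 0x80, [0x81, 0x84, 0xf78]⟩

def ip16 : List Nat := [0x4ad, 0x9cc, 0xf0, 0xe04]
def l16 : Let := ⟨5, true, 0xfff, 0x100, [0x101, 0x104, 0xef8]⟩

def ip17 : List Nat := [0x4ad, 0xacc, 0xf0, 0xd04]
def l17 : Let := ⟨6, true, 0xfff, 0x200, [0x201, 0x204, 0xdf8]⟩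

def ip18 : List Nat := [0x2ad, 0xccc, 0xf0, 0xb04]
def l18 : Let := ⟨7, true, 0xfff, 0x400, [0x401, 0x404, 0xbf8]⟩

def ip19 : List Nat := [0x2ad, 0xccc, 0xf0, 0x704]
def l19 : Let := ⟨8, true, 0xfff, 0x800, [0x801, 0x804, 0x7f8]⟩

def ip20 : List Nat := [0xaaa, 0xccc, 0xf0, 0xf00]
def l20 : Let := ⟨9, true, 0xfff, 0x4, [0x2, 0x4, 0xff8]⟩

def NT : List Net := [n0, n1, n2, n3, n4, n5, n6, n7, n8, n9]
def LT : List Let := [⟨0, false, 0, 0, []⟩, l1, l2, l3, l4, l5, l6, l7, l8, l9, l10, l11, l12, l13, l14, l15, l16, l17, l18, l19, l20]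
def T : Tab := ⟨NT, LT⟩
def EX : List (List Nat) := [[], [0], [2], [4], [6], [8], [10], [12], [14], [16], [18], [1], [3], [5], [7], [9], [11], [13], [15], [17], [19]]
def RL : List (List Nat) := [[0, 0, 0], [2, 2, 2], [4, 4, 4], [6, 6, 6], [8, 8, 8], [10, 10, 10], [12, 12, 12], [14, 14, 14], [16, 16, 16], [18, 18, 18], [0, 2, 0, 2], [0, 4, 0, 4], [0, 6, 0, 6], [0, 8, 0, 8], [0, 10, 0, 10], [0, 12, 0, 12], [0, 14, 0, 14], [0, 16, 0, 16], [0, 18, 0, 18], [2, 4, 2, 4], [2, 6, 2, 6], [2, 8, 2, 8], [2, 10, 2, 10], [2, 12, 2, 12], [2, 14, 2, 14], [2, 16, 2, 16], [2, 18, 2, 18], [4, 6, 4, 6], [4, 8, 4, 8], [4, 10, 4, 10], [4, 12, 4, 12], [4, 14, 4, 14], [4, 16, 4, 16], [4, 18, 4, 18], [6, 8, 6, 8], [6, 10, 6, 10], [6, 12, 6, 12], [6, 14, 6, 14], [6, 16, 6, 16], [6, 18, 6, 18], [8, 10, 8, 10], [8, 12, 8, 12], [8, 14, 8, 14], [8, 16, 8,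 16], [8, 18, 8, 18], [10, 12, 10, 12], [10, 14, 10, 14], [10, 16, 10, 16], [10, 18, 10, 18], [12, 14, 12, 14], [12, 16, 12, 16], [12, 18, 12, 18], [14, 16, 14, 16], [14, 18, 14, 18], [16, 18, 16, 18]]
def XL : List (List Nat) := []
def BW : List (List Nat) := [[0], [2], [4], [6], [8], [10], [12], [14], [16]]
def IV : Nat := 0xa09080706050403020114131211100f0e0d0c0b00
def L : List Nat := [1, 2, 3, 4, 5, 6, 7, 8, 9, 10, 11, 12, 13, 14, 15, 16, 17, 18, 19, 20]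
def gs : List Nat := [1, 2, 3, 4, 5, 6, 7, 8, 9, 10]
def base : List Nat := [1, 2, 3, 4, 5, 6, 7, 8, 9]

end Cfsg.Agent.Spor.An12
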