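import Cfsg.Agent.Spor.Cert
import Cfsg.Agent.Spor.An12.C0

set_option autoImplicit false
set_option maxRecDepth 100000000
set_option Elab.async false
set_option linter.unusedSectionVars false

namespace Cfsg.Agent.Spor.An12

theorem hT : T.Ok 4 := T.ok_of 4 (show AllP (fun n => Net.okb 4 n = true) [n0, n1, n2, n3, n4, n5, n6, n7, n8, n9] from AllP.cons ok0 (AllP.cons ok1 (AllP.cons ok2 (AllP.cons ok3 (AllP.cons ok4 (AllP.cons ok5 (AllP.cons ok6 (AllP.cons ok7 (AllP.cons ok8 (AllP.cons ok9 (AllP.nil)))))))))))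

noncomputable def fP : ℕ → Equiv.Perm ℕ := T.fP gs

theorem hsq : ∀ j < 0, j < 10 → T.fP gs j * T.fP gs j = 1 :=
  Tab.sq (show AllP (fun z => evA T.τ [z, z] = 1) [] from AllP.nil) 10 rfl

theorem hiv : IvOk (2 * 0) (atm 10 (T.fP gs)) := ivOk_atm hsq

theorem pz1 : PZ T (atm 10 (T.fP gs)) EX 1 := PZ.of_atom (y := 2 * 0) (by decide +kernel) (atm_two_mul _ (by decide))
theorem pz2 : PZ T (atm 10 (T.fP gs)) EX 2 := PZ.of_atom (y := 2 * 1) (by decide +kernel) (atm_two_mul _ (by decide))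
theorem pz3 : PZ T (atm 10 (T.fP gs)) EX 3 := PZ.of_atom (y := 2 * 2) (by decide +kernel) (atm_two_mul _ (by decide))
theorem pz4 : PZ T (atm 10 (T.fP gs)) EX 4 := PZ.of_atom (y := 2 * 3) (by decide +kernel) (atm_two_mul _ (by decide))
theorem pz5 : PZ T (atm 10 (T.fP gs)) EX 5 := PZ.of_atom (y := 2 * 4) (by decide +kernel) (atm_two_mul _ (by decide))
theorem pz6 : PZ T (atm 10 (T.fP gs)) EX 6 := PZ.of_atom (y := 2 * 5) (by decide +kernel) (atm_two_mul _ (by decide))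
theorem pz7 : PZ T (atm 10 (T.fP gs)) EX 7 := PZ.of_atom (y := 2 * 6) (by decide +kernel) (atm_two_mul _ (by decide))
theorem pz8 : PZ T (atm 10 (T.fP gs)) EX 8 := PZ.of_atom (y := 2 * 7) (by decide +kernel) (atm_two_mul _ (by decide))
theorem pz9 : PZ T (atm 10 (T.fP gs)) EX 9 := PZ.of_atom (y := 2 * 8) (by decide +kernel) (atm_two_mul _ (by decide))
theorem pz10 : PZ T (atm 10 (T.fP gs)) EX 10 := PZ.of_atom (y := 2 * 9) (by decide +kernel) (atm_two_mul _ (by decide))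
theorem pz11 : PZ T (atm 10 (T.fP gs)) EX 11 := PZ.of_inv hiv pz1 (by decide +kernel)
theorem pz12 : PZ T (atm 10 (T.fP gs)) EX 12 := PZ.of_inv hiv pz2 (by decide +kernel)
theorem pz13 : PZ T (atm 10 (T.fP gs)) EX 13 := PZ.of_inv hiv pz3 (by decide +kernel)
theorem pz14 : PZ T (atm 10 (T.fP gs)) EX 14 := PZ.of_inv hiv pz4 (by decide +kernel)
theorem pz15 : PZ T (atm 10 (T.fP gs)) EX 15 := PZ.of_inv hiv pz5 (by decide +kernel)
theorem pz16 : PZ T (atm 10 (T.fP gs)) EX 16 := PZ.of_inv hiv pz6 (by decide +kernel)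
theorem pz17 : PZ T (atm 10 (T.fP gs)) EX 17 := PZ.of_inv hiv pz7 (by decide +kernel)
theorem pz18 : PZ T (atm 10 (T.fP gs)) EX 18 := PZ.of_inv hiv pz8 (by decide +kernel)
theorem pz19 : PZ T (atm 10 (T.fP gs)) EX 19 := PZ.of_inv hiv pz9 (by decide +kernel)
theorem pz20 : PZ T (atm 10 (T.fP gs)) EX 20 := PZ.of_inv hiv pz10 (by decide +kernel)
theorem hPZ : AllP (PZ T (atm 10 (T.fP gs)) EX) L :=
  show AllP (PZ T (atm 10 (T.fP gs)) EX) [1, 2, 3, 4, 5, 6, 7, 8, 9, 10, 11, 12, 13, 14, 15, 16, 17, 18, 19, 20] from AllP.cons pz1 (AllP.cons pz2 (AllP.cons pz3 (AllP.cons pz4 (AllP.cons pz5 (AllP.cons pz6 (AllP.cons pz7 (AllP.cons pz8 (AllP.cons pz9 (AllP.cons pz10 (AllP.cons pz11 (AllP.cons pz12 (AllP.cons pz13 (AllP.cons pz14 (AllP.cons pz15 (AllP.cons pz16 (AllP.cons pz17 (AllP.cons pz18 (AllP.cons pz19 (AllP.cons pz20 (AllP.nil))))))))))))))))))))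

theorem hrel : ∀ l ∈ RL, ev (atm 10 (T.fP gs)) l = 1 :=
  relAll_sound hiv (W := [[1, 1, 1], [2, 2, 2], [3, 3, 3], [4, 4, 4], [5, 5, 5], [6, 6, 6], [7, 7, 7], [8, 8, 8], [9, 9, 9], [10, 10, 10], [2, 1, 2, 1], [3, 1, 3, 1], [4, 1, 4, 1], [5, 1, 5, 1], [6, 1, 6, 1], [7, 1, 7, 1], [8, 1, 8, 1], [9, 1, 9, 1], [10, 1, 10, 1], [3, 2, 3, 2], [4, 2, 4, 2], [5, 2, 5, 2], [6, 2, 6, 2], [7, 2, 7, 2], [8, 2, 8, 2], [9, 2, 9, 2], [10, 2, 10, 2], [4, 3, 4, 3], [5, 3, 5, 3], [6, 3, 6, 3], [7, 3, 7, 3], [8, 3, 8, 3], [9, 3, 9, 3], [10, 3, 10, 3], [5, 4, 5, 4], [6, 4, 6, 4], [7, 4, 7, 4], [8, 4, 8, 4], [9, 4, 9, 4], [10, 4, 10, 4], [6, 5, 6, 5], [7, 5, 7, 5], [8, 5, 8, 5], [9, 5, 9, 5], [10, 5, 10, 5], [7, 6, 7, 6], [8, 6, 8, 6], [9, 6, 9, 6], [10, 6, 10, 6], [8, 7, 8, 7], [9, 7, 9, 7], [10, 7, 10, 7], [9, 8, 9, 8], [10, 8, 10, 8], [10, 9, 10, 9]]) (rules := [⟨[1, 1, 1], [], 0, true⟩,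 ⟨[2, 2, 2], [], 1, true⟩, ⟨[3, 3, 3], [], 2, true⟩, ⟨[4, 4, 4], [], 3, true⟩, ⟨[5, 5, 5], [], 4, true⟩, ⟨[6, 6, 6], [], 5, true⟩, ⟨[7, 7, 7], [], 6, true⟩, ⟨[8, 8, 8], [], 7, true⟩, ⟨[9, 9, 9], [], 8, true⟩, ⟨[10, 10, 10], [], 9, true⟩, ⟨[2, 1, 2, 1], [], 10, true⟩, ⟨[3, 1, 3, 1], [], 11, true⟩, ⟨[4, 1, 4, 1], [], 12, true⟩, ⟨[5, 1, 5, 1], [], 13, true⟩, ⟨[6, 1, 6, 1], [], 14, true⟩, ⟨[7, 1, 7, 1], [], 15, true⟩, ⟨[8, 1, 8, 1], [], 16, true⟩, ⟨[9, 1, 9, 1], [], 17, true⟩, ⟨[10, 1, 10, 1], [], 18, true⟩, ⟨[3, 2, 3, 2], [], 19, true⟩, ⟨[4, 2, 4, 2], [], 20, true⟩, ⟨[5, 2, 5, 2], [], 21, true⟩, ⟨[6, 2, 6, 2], [], 22, true⟩, ⟨[7, 2, 7, 2], [], 23, true⟩, ⟨[8, 2, 8, 2], [], 24, true⟩, ⟨[9, 2, 9, 2], [], 25, true⟩, ⟨[10, 2, 10, 2], [], 26, true⟩, ⟨[4, 3, 4, 3], [], 27, true⟩, ⟨[5, 3, 5, 3], [], 28, true⟩, ⟨[6, 3, 6, 3], [], 29, true⟩, ⟨[7, 3, 7, 3], [], 30, true⟩, ⟨[8, 3, 8,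 3], [], 31, true⟩, ⟨[9, 3, 9, 3], [], 32, true⟩, ⟨[10, 3, 10, 3], [], 33, true⟩, ⟨[5, 4, 5, 4], [], 34, true⟩, ⟨[6, 4, 6, 4], [], 35, true⟩, ⟨[7, 4, 7, 4], [], 36, true⟩, ⟨[8, 4, 8, 4], [], 37, true⟩, ⟨[9, 4, 9, 4], [], 38, true⟩, ⟨[10, 4, 10, 4], [], 39, true⟩, ⟨[6, 5, 6, 5], [], 40, true⟩, ⟨[7, 5, 7, 5], [], 41, true⟩, ⟨[8, 5, 8, 5], [], 42, true⟩, ⟨[9, 5, 9, 5], [], 43, true⟩, ⟨[10, 5, 10, 5], [], 44, true⟩, ⟨[7, 6, 7, 6], [], 45, true⟩, ⟨[8, 6, 8, 6], [], 46, true⟩, ⟨[9, 6, 9, 6], [], 47, true⟩, ⟨[10, 6, 10, 6], [], 48, true⟩, ⟨[8, 7, 8, 7], [], 49, true⟩, ⟨[9, 7, 9, 7], [], 50, true⟩, ⟨[10, 7, 10, 7], [], 51, true⟩, ⟨[9, 8, 9, 8], [], 52, true⟩, ⟨[10, 8, 10, 8], [], 53, true⟩, ⟨[10, 9, 10, 9], [], 54, true⟩]) hPZ (AllP.cons (hT.one rel0) (AllP.cons (hT.one rel1) (AllP.cons (hT.one rel2) (AllP.cons (hT.one rel3) (AllP.cons (hT.one rel4) (AllP.cons (hT.one rel5) (AllP.cons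 (hT.one rel6) (AllP.cons (hT.one rel7) (AllP.cons (hT.one rel8) (AllP.cons (hT.one rel9) (AllP.cons (hT.one rel10) (AllP.cons (hT.one rel11) (AllP.cons (hT.one rel12) (AllP.cons (hT.one rel13) (AllP.cons (hT.one rel14) (AllP.cons (hT.one rel15) (AllP.cons (hT.one rel16) (AllP.cons (hT.one rel17) (AllP.cons (hT.one rel18) (AllP.cons (hT.one rel19) (AllP.cons (hT.one rel20) (AllP.cons (hT.one rel21) (AllP.cons (hT.one rel22) (AllP.cons (hT.one rel23) (AllP.cons (hT.one rel24) (AllP.cons (hT.one rel25) (AllP.cons (hT.one rel26) (AllP.cons (hT.one rel27) (AllP.cons (hT.one rel28) (AllP.cons (hT.one rel29) (AllP.cons (hT.one rel30) (AllP.cons (hT.one rel31) (AllP.cons (hT.one rel32) (AllP.cons (hT.one rel33) (AllP.cons (hT.one rel34) (AllP.cons (hT.one rel35) (AllP.cons (hT.one rel36) (AllP.cons (hT.one rel37) (AllP.cons (hT.one rel38) (AllP.cons (hT.one rel39) (AllP.cons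 (hT.one rel40) (AllP.cons (hT.one rel41) (AllP.cons (hT.one rel42) (AllP.cons (hT.one rel43) (AllP.cons (hT.one rel44) (AllP.cons (hT.one rel45) (AllP.cons (hT.one rel46) (AllP.cons (hT.one rel47) (AllP.cons (hT.one rel48) (AllP.cons (hT.one rel49) (AllP.cons (hT.one rel50) (AllP.cons (hT.one rel51) (AllP.cons (hT.one rel52) (AllP.cons (hT.one rel53) (AllP.cons (hT.one rel54) (AllP.nil)))))))))))))))))))))))))))))))))))))))))))))))))))))))) (by decide +kernel)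

section
variable {G : Type} [Group G] {a : ℕ → G} (hi : IvOk (2 * 0) a) (hR : ∀ r ∈ RL, ev a r = 1)
  {H : Subgroup G} (hb : ∀ z ∈ base, letV a EX z ∈ H)
include hi hR hb

theorem let1 : LetOk H (letV a EX) T L 1 :=
  LetOk.of' hT tl1 cov1 (AllP.cons (Just.rot hT hi hR rot1_1 rot1_1r) (AllP.cons (Just.rot hT hi hR rot1_2 rot1_2r) (AllP.cons (Just.rot hT hi hR rot1_3 rot1_3r) (AllP.cons (Just.rot hT hi hR rot1_4 rot1_4r) (AllP.cons (Just.rot hT hi hR rot1_5 rot1_5r) (AllP.cons (Just.rot hT hi hR rot1_6 rot1_6r) (AllP.cons (Just.rot hT hi hR rot1_7 rot1_7r) (AllP.cons (Just.rot hT hi hR rot1_8 rot1_8r) (AllP.cons (Just.rot hT hi hR rot1_9 rot1_9r) (AllP.cons (Just.rot hT hi hR rot1_10 rot1_10r) (AllP.cons (Just.rot hT hi hR rot1_11 rot1_11r) (AllP.cons (Just.base (hb 1 (by decide))) (AllP.nil)))))))))))))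
theorem let2 : LetOk H (letV a EX) T L 2 :=
  LetOk.of' hT tl2 cov2 (AllP.cons (Just.rot hT hi hR rot2_1 rot2_1r) (AllP.cons (Just.rot hT hi hR rot2_2 rot2_2r) (AllP.cons (Just.rot hT hi hR rot2_3 rot2_3r) (AllP.cons (Just.rot hT hi hR rot2_4 rot2_4r) (AllP.cons (Just.rot hT hi hR rot2_5 rot2_5r) (AllP.cons (Just.rot hT hi hR rot2_6 rot2_6r) (AllP.cons (Just.rot hT hi hR rot2_7 rot2_7r) (AllP.cons (Just.rot hT hi hR rot2_8 rot2_8r) (AllP.cons (Just.rot hT hi hR rot2_9 rot2_9r) (AllP.cons (Just.rot hT hi hR rot2_10 rot2_10r) (AllP.cons (Just.rot hT hi hR rot2_11 rot2_11r) (AllP.cons (Just.base (hb 2 (by decide))) (AllP.nil)))))))))))))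
theorem let3 : LetOk H (letV a EX) T L 3 :=
  LetOk.of' hT tl3 cov3 (AllP.cons (Just.rot hT hi hR rot3_1 rot3_1r) (AllP.cons (Just.rot hT hi hR rot3_2 rot3_2r) (AllP.cons (Just.rot hT hi hR rot3_3 rot3_3r) (AllP.cons (Just.rot hT hi hR rot3_4 rot3_4r) (AllP.cons (Just.rot hT hi hR rot3_5 rot3_5r) (AllP.cons (Just.rot hT hi hR rot3_6 rot3_6r) (AllP.cons (Just.rot hT hi hR rot3_7 rot3_7r) (AllP.cons (Just.rot hT hi hR rot3_8 rot3_8r) (AllP.cons (Just.rot hT hi hR rot3_9 rot3_9r) (AllP.cons (Just.rot hT hi hR rot3_10 rot3_10r) (AllP.cons (Just.rot hT hi hR rot3_11 rot3_11r) (AllP.cons (Just.base (hb 3 (by decide))) (AllP.nil)))))))))))))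
theorem let4 : LetOk H (letV a EX) T L 4 :=
  LetOk.of' hT tl4 cov4 (AllP.cons (Just.rot hT hi hR rot4_1 rot4_1r) (AllP.cons (Just.rot hT hi hR rot4_2 rot4_2r) (AllP.cons (Just.rot hT hi hR rot4_3 rot4_3r) (AllP.cons (Just.rot hT hi hR rot4_4 rot4_4r) (AllP.cons (Just.rot hT hi hR rot4_5 rot4_5r) (AllP.cons (Just.rot hT hi hR rot4_6 rot4_6r) (AllP.cons (Just.rot hT hi hR rot4_7 rot4_7r) (AllP.cons (Just.rot hT hi hR rot4_8 rot4_8r) (AllP.cons (Just.rot hT hi hR rot4_9 rot4_9r) (AllP.cons (Just.rot hT hi hR rot4_10 rot4_10r) (AllP.cons (Just.rot hT hi hR rot4_11 rot4_11r) (AllP.cons (Just.base (hb 4 (by decide))) (AllP.nil)))))))))))))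
theorem let5 : LetOk H (letV a EX) T L 5 :=
  LetOk.of' hT tl5 cov5 (AllP.cons (Just.rot hT hi hR rot5_1 rot5_1r) (AllP.cons (Just.rot hT hi hR rot5_2 rot5_2r) (AllP.cons (Just.rot hT hi hR rot5_3 rot5_3r) (AllP.cons (Just.rot hT hi hR rot5_4 rot5_4r) (AllP.cons (Just.rot hT hi hR rot5_5 rot5_5r) (AllP.cons (Just.rot hT hi hR rot5_6 rot5_6r) (AllP.cons (Just.rot hT hi hR rot5_7 rot5_7r) (AllP.cons (Just.rot hT hi hR rot5_8 rot5_8r) (AllP.cons (Just.rot hT hi hR rot5_9 rot5_9r) (AllP.cons (Just.rot hT hi hR rot5_10 rot5_10r) (AllP.cons (Just.rot hT hi hR rot5_11 rot5_11r) (AllP.cons (Just.base (hb 5 (by decide))) (AllP.nil)))))))))))))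
theorem let6 : LetOk H (letV a EX) T L 6 :=
  LetOk.of' hT tl6 cov6 (AllP.cons (Just.rot hT hi hR rot6_1 rot6_1r) (AllP.cons (Just.rot hT hi hR rot6_2 rot6_2r) (AllP.cons (Just.rot hT hi hR rot6_3 rot6_3r) (AllP.cons (Just.rot hT hi hR rot6_4 rot6_4r) (AllP.cons (Just.rot hT hi hR rot6_5 rot6_5r) (AllP.cons (Just.rot hT hi hR rot6_6 rot6_6r) (AllP.cons (Just.rot hT hi hR rot6_7 rot6_7r) (AllP.cons (Just.rot hT hi hR rot6_8 rot6_8r) (AllP.cons (Just.rot hT hi hR rot6_9 rot6_9r) (AllP.cons (Just.rot hT hi hR rot6_10 rot6_10r) (AllP.cons (Just.rot hT hi hR rot6_11 rot6_11r) (AllP.cons (Just.base (hb 6 (by decide))) (AllP.nil)))))))))))))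
theorem let7 : LetOk H (letV a EX) T L 7 :=
  LetOk.of' hT tl7 cov7 (AllP.cons (Just.rot hT hi hR rot7_1 rot7_1r) (AllP.cons (Just.rot hT hi hR rot7_2 rot7_2r) (AllP.cons (Just.rot hT hi hR rot7_3 rot7_3r) (AllP.cons (Just.rot hT hi hR rot7_4 rot7_4r) (AllP.cons (Just.rot hT hi hR rot7_5 rot7_5r) (AllP.cons (Just.rot hT hi hR rot7_6 rot7_6r) (AllP.cons (Just.rot hT hi hR rot7_7 rot7_7r) (AllP.cons (Just.rot hT hi hR rot7_8 rot7_8r) (AllP.cons (Just.rot hT hi hR rot7_9 rot7_9r) (AllP.cons (Just.rot hT hi hR rot7_10 rot7_10r) (AllP.cons (Just.rot hT hi hR rot7_11 rot7_11r) (AllP.cons (Just.base (hb 7 (by decide))) (AllP.nil)))))))))))))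
theorem let8 : LetOk H (letV a EX) T L 8 :=
  LetOk.of' hT tl8 cov8 (AllP.cons (Just.rot hT hi hR rot8_1 rot8_1r) (AllP.cons (Just.rot hT hi hR rot8_2 rot8_2r) (AllP.cons (Just.rot hT hi hR rot8_3 rot8_3r) (AllP.cons (Just.rot hT hi hR rot8_4 rot8_4r) (AllP.cons (Just.rot hT hi hR rot8_5 rot8_5r) (AllP.cons (Just.rot hT hi hR rot8_6 rot8_6r) (AllP.cons (Just.rot hT hi hR rot8_7 rot8_7r) (AllP.cons (Just.rot hT hi hR rot8_8 rot8_8r) (AllP.cons (Just.rot hT hi hR rot8_9 rot8_9r) (AllP.cons (Just.rot hT hi hR rot8_10 rot8_10r) (AllP.cons (Just.rot hT hi hR rot8_11 rot8_11r) (AllP.cons (Just.base (hb 8 (by decide))) (AllP.nil)))))))))))))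
theorem let9 : LetOk H (letV a EX) T L 9 :=
  LetOk.of' hT tl9 cov9 (AllP.cons (Just.rot hT hi hR rot9_1 rot9_1r) (AllP.cons (Just.rot hT hi hR rot9_2 rot9_2r) (AllP.cons (Just.rot hT hi hR rot9_3 rot9_3r) (AllP.cons (Just.rot hT hi hR rot9_4 rot9_4r) (AllP.cons (Just.rot hT hi hR rot9_5 rot9_5r) (AllP.cons (Just.rot hT hi hR rot9_6 rot9_6r) (AllP.cons (Just.rot hT hi hR rot9_7 rot9_7r) (AllP.cons (Just.rot hT hi hR rot9_8 rot9_8r) (AllP.cons (Just.rot hT hi hR rot9_9 rot9_9r) (AllP.cons (Just.rot hT hi hR rot9_10 rot9_10r) (AllP.cons (Just.rot hT hi hR rot9_11 rot9_11r) (AllP.cons (Just.base (hb 9 (by decide))) (AllP.nil)))))))))))))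
theorem let10 : LetOk H (letV a EX) T L 10 :=
  LetOk.of hT tl10 cov10 (AllP.cons (Just.rot hT hi hR rot10_1 rot10_1r) (AllP.cons (Just.rot hT hi hR rot10_2 rot10_2r) (AllP.cons (Just.rot hT hi hR rot10_3 rot10_3r) (AllP.cons (Just.rot hT hi hR rot10_4 rot10_4r) (AllP.cons (Just.rot hT hi hR rot10_5 rot10_5r) (AllP.cons (Just.rot hT hi hR rot10_6 rot10_6r) (AllP.cons (Just.rot hT hi hR rot10_7 rot10_7r) (AllP.cons (Just.rot hT hi hR rot10_8 rot10_8r) (AllP.cons (Just.rot hT hi hR rot10_9 rot10_9r) (AllP.cons (Just.rot hT hi hR rot10_10 rot10_10r) (AllP.cons (Just.rot hT hi hR rot10_11 rot10_11r) (AllP.nil))))))))))))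
theorem let11 : LetOk H (letV a EX) T L 11 :=
  LetOk.of hT tl11 cov11 (AllP.cons (Just.rot hT hi hR rot11_1 rot11_1r) (AllP.cons (Just.rot hT hi hR rot11_2 rot11_2r) (AllP.cons (Just.rot hT hi hR rot11_3 rot11_3r) (AllP.cons (Just.rot hT hi hR rot11_4 rot11_4r) (AllP.cons (Just.rot hT hi hR rot11_5 rot11_5r) (AllP.cons (Just.rot hT hi hR rot11_6 rot11_6r) (AllP.cons (Just.rot hT hi hR rot11_7 rot11_7r) (AllP.cons (Just.rot hT hi hR rot11_8 rot11_8r) (AllP.cons (Just.rot hT hi hR rot11_9 rot11_9r) (AllP.cons (Just.rot hT hi hR rot11_10 rot11_10r) (AllP.cons (Just.rot hT hi hR rot11_11 rot11_11r) (AllP.nil))))))))))))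
theorem let12 : LetOk H (letV a EX) T L 12 :=
  LetOk.of hT tl12 cov12 (AllP.cons (Just.rot hT hi hR rot12_1 rot12_1r) (AllP.cons (Just.rot hT hi hR rot12_2 rot12_2r) (AllP.cons (Just.rot hT hi hR rot12_3 rot12_3r) (AllP.cons (Just.rot hT hi hR rot12_4 rot12_4r) (AllP.cons (Just.rot hT hi hR rot12_5 rot12_5r) (AllP.cons (Just.rot hT hi hR rot12_6 rot12_6r) (AllP.cons (Just.rot hT hi hR rot12_7 rot12_7r) (AllP.cons (Just.rot hT hi hR rot12_8 rot12_8r) (AllP.cons (Just.rot hT hi hR rot12_9 rot12_9r) (AllP.cons (Just.rot hT hi hR rot12_10 rot12_10r) (AllP.cons (Just.rot hT hi hR rot12_11 rot12_11r) (AllP.nil))))))))))))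
theorem let13 : LetOk H (letV a EX) T L 13 :=
  LetOk.of hT tl13 cov13 (AllP.cons (Just.rot hT hi hR rot13_1 rot13_1r) (AllP.cons (Just.rot hT hi hR rot13_2 rot13_2r) (AllP.cons (Just.rot hT hi hR rot13_3 rot13_3r) (AllP.cons (Just.rot hT hi hR rot13_4 rot13_4r) (AllP.cons (Just.rot hT hi hR rot13_5 rot13_5r) (AllP.cons (Just.rot hT hi hR rot13_6 rot13_6r) (AllP.cons (Just.rot hT hi hR rot13_7 rot13_7r) (AllP.cons (Just.rot hT hi hR rot13_8 rot13_8r) (AllP.cons (Just.rot hT hi hR rot13_9 rot13_9r) (AllP.cons (Just.rot hT hi hR rot13_10 rot13_10r) (AllP.cons (Just.rot hT hi hR rot13_11 rot13_11r) (AllP.nil))))))))))))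
theorem let14 : LetOk H (letV a EX) T L 14 :=
  LetOk.of hT tl14 cov14 (AllP.cons (Just.rot hT hi hR rot14_1 rot14_1r) (AllP.cons (Just.rot hT hi hR rot14_2 rot14_2r) (AllP.cons (Just.rot hT hi hR rot14_3 rot14_3r) (AllP.cons (Just.rot hT hi hR rot14_4 rot14_4r) (AllP.cons (Just.rot hT hi hR rot14_5 rot14_5r) (AllP.cons (Just.rot hT hi hR rot14_6 rot14_6r) (AllP.cons (Just.rot hT hi hR rot14_7 rot14_7r) (AllP.cons (Just.rot hT hi hR rot14_8 rot14_8r) (AllP.cons (Just.rot hT hi hR rot14_9 rot14_9r) (AllP.cons (Just.rot hT hi hR rot14_10 rot14_10r) (AllP.cons (Just.rot hT hi hR rot14_11 rot14_11r) (AllP.nil))))))))))))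
theorem let15 : LetOk H (letV a EX) T L 15 :=
  LetOk.of hT tl15 cov15 (AllP.cons (Just.rot hT hi hR rot15_1 rot15_1r) (AllP.cons (Just.rot hT hi hR rot15_2 rot15_2r) (AllP.cons (Just.rot hT hi hR rot15_3 rot15_3r) (AllP.cons (Just.rot hT hi hR rot15_4 rot15_4r) (AllP.cons (Just.rot hT hi hR rot15_5 rot15_5r) (AllP.cons (Just.rot hT hi hR rot15_6 rot15_6r) (AllP.cons (Just.rot hT hi hR rot15_7 rot15_7r) (AllP.cons (Just.rot hT hi hR rot15_8 rot15_8r) (AllP.cons (Just.rot hT hi hR rot15_9 rot15_9r) (AllP.cons (Just.rot hT hi hR rot15_10 rot15_10r) (AllP.cons (Just.rot hT hi hR rot15_11 rot15_11r) (AllP.nil))))))))))))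
theorem let16 : LetOk H (letV a EX) T L 16 :=
  LetOk.of hT tl16 cov16 (AllP.cons (Just.rot hT hi hR rot16_1 rot16_1r) (AllP.cons (Just.rot hT hi hR rot16_2 rot16_2r) (AllP.cons (Just.rot hT hi hR rot16_3 rot16_3r) (AllP.cons (Just.rot hT hi hR rot16_4 rot16_4r) (AllP.cons (Just.rot hT hi hR rot16_5 rot16_5r) (AllP.cons (Just.rot hT hi hR rot16_6 rot16_6r) (AllP.cons (Just.rot hT hi hR rot16_7 rot16_7r) (AllP.cons (Just.rot hT hi hR rot16_8 rot16_8r) (AllP.cons (Just.rot hT hi hR rot16_9 rot16_9r) (AllP.cons (Just.rot hT hi hR rot16_10 rot16_10r) (AllP.cons (Just.rot hT hi hR rot16_11 rot16_11r) (AllP.nil))))))))))))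
theorem let17 : LetOk H (letV a EX) T L 17 :=
  LetOk.of hT tl17 cov17 (AllP.cons (Just.rot hT hi hR rot17_1 rot17_1r) (AllP.cons (Just.rot hT hi hR rot17_2 rot17_2r) (AllP.cons (Just.rot hT hi hR rot17_3 rot17_3r) (AllP.cons (Just.rot hT hi hR rot17_4 rot17_4r) (AllP.cons (Just.rot hT hi hR rot17_5 rot17_5r) (AllP.cons (Just.rot hT hi hR rot17_6 rot17_6r) (AllP.cons (Just.rot hT hi hR rot17_7 rot17_7r) (AllP.cons (Just.rot hT hi hR rot17_8 rot17_8r) (AllP.cons (Just.rot hT hi hR rot17_9 rot17_9r) (AllP.cons (Just.rot hT hi hR rot17_10 rot17_10r) (AllP.cons (Just.rot hT hi hR rot17_11 rot17_11r) (AllP.nil))))))))))))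
theorem let18 : LetOk H (letV a EX) T L 18 :=
  LetOk.of hT tl18 cov18 (AllP.cons (Just.rot hT hi hR rot18_1 rot18_1r) (AllP.cons (Just.rot hT hi hR rot18_2 rot18_2r) (AllP.cons (Just.rot hT hi hR rot18_3 rot18_3r) (AllP.cons (Just.rot hT hi hR rot18_4 rot18_4r) (AllP.cons (Just.rot hT hi hR rot18_5 rot18_5r) (AllP.cons (Just.rot hT hi hR rot18_6 rot18_6r) (AllP.cons (Just.rot hT hi hR rot18_7 rot18_7r) (AllP.cons (Just.rot hT hi hR rot18_8 rot18_8r) (AllP.cons (Just.rot hT hi hR rot18_9 rot18_9r) (AllP.cons (Just.rot hT hi hR rot18_10 rot18_10r) (AllP.cons (Just.rot hT hi hR rot18_11 rot18_11r) (AllP.nil))))))))))))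
theorem let19 : LetOk H (letV a EX) T L 19 :=
  LetOk.of hT tl19 cov19 (AllP.cons (Just.rot hT hi hR rot19_1 rot19_1r) (AllP.cons (Just.rot hT hi hR rot19_2 rot19_2r) (AllP.cons (Just.rot hT hi hR rot19_3 rot19_3r) (AllP.cons (Just.rot hT hi hR rot19_4 rot19_4r) (AllP.cons (Just.rot hT hi hR rot19_5 rot19_5r) (AllP.cons (Just.rot hT hi hR rot19_6 rot19_6r) (AllP.cons (Just.rot hT hi hR rot19_7 rot19_7r) (AllP.cons (Just.rot hT hi hR rot19_8 rot19_8r) (AllP.cons (Just.rot hT hi hR rot19_9 rot19_9r) (AllP.cons (Just.rot hT hi hR rot19_10 rot19_10r) (AllP.cons (Just.rot hT hi hR rot19_11 rot19_11r) (AllP.nil))))))))))))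
theorem let20 : LetOk H (letV a EX) T L 20 :=
  LetOk.of hT tl20 cov20 (AllP.cons (Just.rot hT hi hR rot20_1 rot20_1r) (AllP.cons (Just.rot hT hi hR rot20_2 rot20_2r) (AllP.cons (Just.rot hT hi hR rot20_3 rot20_3r) (AllP.cons (Just.rot hT hi hR rot20_4 rot20_4r) (AllP.cons (Just.rot hT hi hR rot20_5 rot20_5r) (AllP.cons (Just.rot hT hi hR rot20_6 rot20_6r) (AllP.cons (Just.rot hT hi hR rot20_7 rot20_7r) (AllP.cons (Just.rot hT hi hR rot20_8 rot20_8r) (AllP.cons (Just.rot hT hi hR rot20_9 rot20_9r) (AllP.cons (Just.rot hT hi hR rot20_10 rot20_10r) (AllP.cons (Just.rot hT hi hR rot20_11 rot20_11r) (AllP.nil))))))))))))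
theorem hlet : AllP (LetOk H (letV a EX) T L) L :=
  show AllP (LetOk H (letV a EX) T L) [1, 2, 3, 4, 5, 6, 7, 8, 9, 10, 11, 12, 13, 14, 15, 16, 17, 18, 19, 20] from AllP.cons (let1 hi hR hb) (AllP.cons (let2 hi hR hb) (AllP.cons (let3 hi hR hb) (AllP.cons (let4 hi hR hb) (AllP.cons (let5 hi hR hb) (AllP.cons (let6 hi hR hb) (AllP.cons (let7 hi hR hb) (AllP.cons (let8 hi hR hb) (AllP.cons (let9 hi hR hb) (AllP.cons (let10 hi hR hb) (AllP.cons (let11 hi hR hb) (AllP.cons (let12 hi hR hb) (AllP.cons (let13 hi hR hb) (AllP.cons (let14 hi hR hb) (AllP.cons (let15 hi hR hb) (AllP.cons (let16 hi hR hb) (AllP.cons (let17 hi hR hb) (AllP.cons (let18 hi hR hb) (AllP.cons (let19 hi hR hb) (AllP.cons (let20 hi hR hb) (AllP.nil))))))))))))))))))))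
end

theorem cert : Cert 10 0 RL BW fP 12 :=
  Cert.of hT ⟨hsq, hrel⟩ hPZ (fun _ _ _ hi hR _ hb => hlet hi hR hb) hcov hg (by decide +kernel)

end Cfsg.Agent.Spor.An12
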