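import Cfsg.Agent.Spor.Sub3
import Cfsg.Agent.Spor.An12.S.Main
import Cfsg.Agent.Spor.An12.L.Main
import Cfsg.Agent.Spor.DC
import Cfsg.Agent.Spor.An11.Main
import Cfsg.Agent.Spor.An10.Main
import Cfsg.Agent.Spor.An9.Main
import Cfsg.Agent.Spor.An8.Main
import Cfsg.Agent.Spor.An7.Main
import Cfsg.Agent.Spor.An6.Main
import Cfsg.Agent.Spor.PX3

set_option autoImplicit false
set_option maxRecDepth 100000

namespace Cfsg.Agent.Spor.An12

theorem bound : Bound 10 0 RL 239500800 := show Bound 10 0 RL (12 * (11 * (10 * (9 * (8 * (7 * (360))))))) from (An12.cert.bound' (An11.cert.bound (An10.cert.bound (An9.cert.bound (An8.cert.bound (An7.cert.bound An6.cert.bound_nil (H := [([], 0, true), ([], 1, true), ([], 2, true), ([], 3, true), ([], 5, true), ([], 6, true), ([], 7, true), ([], 9, true), ([], 10, true), ([], 12, true)]) (by decide +kernel)) (H := [([], 0, true), ([], 1, true), ([], 2, true), ([], 3, true), ([], 4, true), ([], 6, true), ([], 7, true), ([], 8, true), ([], 9, true), ([], 11, true), ([], 12, true), ([], 13, true), ([], 15, true), ([], 16, true), ([], 18, true)]) (by decide +kernel)) (H := [([], 0, true),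 ([], 1, true), ([], 2, true), ([], 3, true), ([], 4, true), ([], 5, true), ([], 7, true), ([], 8, true), ([], 9, true), ([], 10, true), ([], 11, true), ([], 13, true), ([], 14, true), ([], 15, true), ([], 16, true), ([], 18, true), ([], 19, true), ([], 20, true), ([], 22, true), ([], 23, true), ([], 25, true)]) (by decide +kernel)) (H := [([], 0, true), ([], 1, true), ([], 2, true), ([], 3, true), ([], 4, true), ([], 5, true), ([], 6, true), ([], 8, true), ([], 9, true), ([], 10, true), ([], 11, true), ([], 12, true), ([], 13, true), ([], 15, true), ([], 16, true), ([], 17, true), ([], 18, true), ([], 19, true), ([], 21, true), ([], 22, true), ([], 23, true), ([], 24, true), ([], 26, true), ([], 27, true), ([], 28, true), ([], 30, true), ([], 31, true), ([], 33, true)]) (by decide +kernel)) (H := [([], 0, true), ([], 1, true), ([], 2, true), ([], 3, true), ([], 4, true), ([], 5, true), ([], 6, true), ([], 7, true), ([], 9, true), ([], 10, true), ([], 11, true), ([], 12, true), ([], 13, true), ([], 14, true), ([], 15, true), ([], 17, true), ([], 18, true), ([], 19, true), ([], 20, true), ([], 21, true), ([], 22,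 true), ([], 24, true), ([], 25, true), ([], 26, true), ([], 27, true), ([], 28, true), ([], 30, true), ([], 31, true), ([], 32, true), ([], 33, true), ([], 35, true), ([], 36, true), ([], 37, true), ([], 39, true), ([], 40, true), ([], 42, true)]) (by decide +kernel)) (H := [([], 0, true), ([], 1, true), ([], 2, true), ([], 3, true), ([], 4, true), ([], 5, true), ([], 6, true), ([], 7, true), ([], 8, true), ([], 9, true), ([], 10, true), ([], 11, true), ([], 12, true), ([], 13, true), ([], 14, true), ([], 15, true), ([], 16, true), ([], 17, true), ([], 18, true), ([], 19, true), ([], 20, true), ([], 21, true), ([], 22, true), ([], 23, true), ([], 24, true), ([], 25, true), ([], 26, true), ([], 27, true), ([], 28, true), ([], 29, true), ([], 30, true), ([], 31, true), ([], 32, true), ([], 33, true), ([], 34, true), ([], 35, true), ([], 36, true), ([], 37, true), ([], 38, true), ([], 39, true), ([], 40, true), ([], 41, true), ([], 42, true), ([], 43, true), ([], 44, true), ([], 45, true), ([], 46, true), ([], 47, true), ([], 48, true), ([], 49, true), ([], 50, true), ([], 51, true), ([], 52, true), ([], 53, true),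 ([], 54, true)]) (H' := [([], 0, true), ([], 1, true), ([], 2, true), ([], 3, true), ([], 4, true), ([], 5, true), ([], 6, true), ([], 7, true), ([], 8, true), ([], 10, true), ([], 11, true), ([], 12, true), ([], 13, true), ([], 14, true), ([], 15, true), ([], 16, true), ([], 17, true), ([], 19, true), ([], 20, true), ([], 21, true), ([], 22, true), ([], 23, true), ([], 24, true), ([], 25, true), ([], 27, true), ([], 28, true), ([], 29, true), ([], 30, true), ([], 31, true), ([], 32, true), ([], 34, true), ([], 35, true), ([], 36, true), ([], 37, true), ([], 38, true), ([], 40, true), ([], 41, true), ([], 42, true), ([], 43, true), ([], 45, true), ([], 46, true), ([], 47, true), ([], 49, true), ([], 50, true), ([], 52, true)]) (by decide +kernel) (by decide +kernel))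

/-- the permutation group -/
noncomputable abbrev P : Subgroup (Equiv.Perm ℕ) := gsub 10 fP
noncomputable abbrev p : ℕ → P := lift P fP

theorem lbP : 239500800 ∣ Nat.card P := by
  rw [P, L.eG]; exact L.lb

theorem cardP : Nat.card P = 239500800 := Nat.dvd_antisymm (bound _ _ cert.pres) lbP

instance instFiniteP : Finite P := Nat.finite_of_card_ne_zero (by rw [cardP]; norm_num)

theorem coatomP : IsCoatom (wsub 10 p BW) :=
  cert.self.coatom (by norm_num) ((map_wsub_lift fP BW).trans S.eH)
    ((Subgroup.range_subtype _).trans S.eG) S.hX S.hXc S.hY

theorem coreP : (wsub 10 p BW).normalCore = ⊥ :=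
  cert.self.core_eq_bot P.subtype_injective ((Subgroup.range_subtype P).symm ▸ S.hfix)

theorem presP : Pres 10 0 RL p := cert.pres.lift

theorem altP : Nonempty (P ≃* alternatingGroup (Fin 12)) :=
  alt_of_index cert.self.index coreP (by rw [cardP]; rfl)

theorem simpleP : IsSimpleGroup P := simple_of_alt altP (by norm_num)

end Cfsg.Agent.Spor.An12
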